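import Cfsg.Agent.H200.LinFixE_m3
import Cfsg.Agent.H851.Dg.Count
import Cfsg.Agent.H884.ElO8
import Cfsg.Agent.Prune
set_option linter.all false

section
prune_inst 0x7ffffffffbfffddfffff7ffffefddffdffbfffffeffffffbffe8ffffabfffb9edfe7fbaffffbf5fe1ff7eb3c1cfd7b53fbfffeffeb6ffc7ffffdfff45fffffdfffffbd3d71ffbdbedfff6ffffbf077ce7f3fffffffffffffffffffffffffffbeffbfffffffff

-- part: H193/Dg/Cyc
section
prune_inst 0x40002200000000001022000004000001000000000010000500000612000041000040a01c00000c0e1000000040001000000018000020008000000000000428002000000000010000007802000000000000000000000000000000041004000000000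
set_option linter.all false
open scoped Cfsg.Agent.FastGrp

/-!
# `p`-groups all of whose elements of order `p` have an irreducible commutator space are cyclic (helper193, S5734)
-/

set_option autoImplicit false
set_option linter.unusedSectionVars false

namespace Cfsg.Agent.H193.Dg

open Module Cfsg.Agent.H200.LinFix

variable {p : ℕ} [hp : Fact p.Prime]

theorem exists_ord {Γ : Type*} [Group Γ] [Finite Γ] (hΓ : IsPGroup p Γ) {N : Subgroup Γ} (hN : N ≠ ⊥) :
    ∃ z ∈ N, z ^ p = 1 ∧ z ≠ 1 := by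
  obtain ⟨z, hz⟩ := exists_prime_orderOf_dvd_card' p
    ((hΓ.to_subgroup N).card_eq_or_dvd.resolve_left (by
      intro h
      exact hN (Subgroup.card_eq_one.1 h)))
  refine ⟨z, z.2, ?_, ?_⟩
  · have h := congrArg Subtype.val (pow_orderOf_eq_one z)
    rw [hz] at h
    exact h
  · intro h
    have h1 : z = 1 := Subtype.ext h
    rw [h1, orderOf_one] at hz
    exact hp.out.one_lt.ne hz

variable {F V : Type*} [Field F] [AddCommGroup V] [Module F V] [Finite V] {d : ℕ}

theorem isCyclic_of_R {Γ : Type*} [Group Γ] [Finite Γ] (hΓ : IsPGroup p Γ) (ρ : Γ →* Module.End F V)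
    (hρ : Function.Injective ρ) (hd : Ordd p (Nat.card F) d) (hd0 : 0 < d) (hpF : (p : F) ≠ 0)
    (hR : ∀ γ : Γ, γ ^ p = 1 → γ ≠ 1 → finrank F (R (ρ γ)) = d) : IsCyclic Γ := by
  rcases subsingleton_or_nontrivial Γ with hs | hs
  · exact isCyclic_of_subsingleton
  have hc : Nontrivial (Subgroup.center Γ) := hΓ.center_nontrivial
  obtain ⟨z, hzc, hzp, hz1⟩ := exists_ord hΓ ((Subgroup.nontrivial_iff_ne_bot _).1 hc)
  have hfin : FiniteDimensional F V := Module.Finite.of_finite
  set g := ρ z with hg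
  have hgp : g ^ p = 1 := by rw [hg, ← map_pow, hzp, map_one]
  have hcomm : ∀ γ : Γ, ρ γ * g = g * ρ γ := by
    intro γ
    rw [hg, ← map_mul, ← map_mul, (Subgroup.mem_center_iff.1 hzc γ)]
  let ρ' : Γ →* Module.End F (R g) :=
    { toFun := fun γ => (ρ γ).restrict (fun w hw => R_inv (hcomm γ) hw)
      map_one' := by ext w; simp only [_root_.map_one, _root_.LinearMap.coe_restrict_apply, _root_.Module.End.one_apply]
      map_mul' := fun a b => by ext w; simp only [Module.End.mul_apply, _root_.map_mul, _root_.LinearMap.coe_restrict_apply, _root_.Module.End.mul_apply] }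
  have hρ' : ∀ (γ : Γ) (w : R g), ((ρ' γ w : R g) : V) = ρ γ w := fun γ w => rfl
  refine isCyclic_of hΓ ρ' ?_ hd hpF (by rw [hR z hzp hz1]; omega)
  rw [← MonoidHom.ker_eq_bot_iff]
  by_contra hne
  obtain ⟨h, hhk, hhp, hh1⟩ := exists_ord hΓ hne
  have htriv : ∀ w ∈ R g, ρ h w = w := by
    intro w hw
    have h1 := congrArg (fun f : Module.End F (R g) => ((f ⟨w, hw⟩ : R g) : V)) (MonoidHom.mem_ker.1 hhk)
    exact h1
  have hyp : (ρ h) ^ p = 1 := by rw [← map_pow, hhp, map_one]
  have hzh : (z * h) ^ p = 1 := by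
    have hc : Commute z h := (Subgroup.mem_center_iff.1 hzc h).symm
    rw [hc.mul_pow, hzp, hhp, one_mul]
  have hzh1 : z * h ≠ 1 := by
    intro h1
    have h2 : ρ z * ρ h = 1 := by rw [← map_mul, h1, map_one]
    apply hz1
    apply hρ
    rw [map_one, ← hg, ← R_eq_bot, Submodule.eq_bot_iff]
    intro w hw
    have h3 := LinearMap.congr_fun h2 w
    rw [Module.End.mul_apply, htriv w hw] at h3
    exact eq_zero_of_mem hgp hpF h3 hw
  set t := ρ (z * h) with ht
  have htp : t ^ p = 1 := by rw [ht, ← map_pow, hzh, map_one]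
  have htv : ∀ v, t v = g (ρ h v) := fun v => by rw [ht, map_mul]; rfl
  have hle : R g ≤ R t := by
    intro v hv
    obtain ⟨w, rfl⟩ := hv
    obtain ⟨k, hk, r, hr, rfl⟩ := decomp hgp hpF w
    refine ⟨r, ?_⟩
    change t r - r = g (k + r) - (k + r)
    rw [htv, htriv r hr, map_add, mem_K.1 hk]
    abel
  have heq : R g = R t := Submodule.eq_of_le_of_finrank_eq hle (by rw [hR z hzp hz1, ht, hR _ hzh hzh1])
  apply hh1
  apply hρ
  rw [map_one, ← R_eq_bot, Submodule.eq_bot_iff]
  intro v hv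
  refine eq_zero_of_mem hyp hpF (htriv v ?_) hv
  obtain ⟨w, rfl⟩ := hv
  obtain ⟨k, hk, r, hr, rfl⟩ := decomp htp hpF w
  rw [← heq] at hr
  change ρ h (k + r) - (k + r) ∈ R g
  have h5 : g (ρ h k) = k := by rw [← htv, mem_K.1 hk]
  have h6 : ρ h (k + r) - (k + r) = -(g (ρ h k) - ρ h k) := by
    rw [h5, map_add, htriv r hr]
    abel
  rw [h6]
  exact Submodule.neg_mem _ (sub_mem_R g _)

end Cfsg.Agent.H193.Dg
end

-- part: H193/Dg/Orth
section
prune_inst 0x20000000000000000000400000400000000180000000000002000140202000084000000000090000000000000000000000000000000000000000000000000000000000000000000000000000000000000000000000000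
set_option linter.all false
open scoped Cfsg.Agent.FastGrp

/-!
# S5734: subgroups of the orthogonal groups and large primes (helper193)

For a subgroup `M` of `PΩ(Q)` : `M` misses a large prime (`BigU`), or `M` has cyclic Sylow `u`-subgroups for a prime `u` with
`ord_u(q) = m` (`TwoU`), or the preimage of `M` lies in the residual class.
-/

set_option autoImplicit false
set_option linter.unusedSectionVars false

namespace Cfsg.Agent.H193.Dg

open Module QuadraticMap Cfsg Cfsg.Geo Cfsg.Agent.LieClassical.OrthCore Cfsg.Agent.H955 Cfsg.Agent.H954.TSing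
open Cfsg.Agent.OrdDiv Cfsg.Agent.H851.Dg Cfsg.Agent.H884.El Cfsg.Agent.LieClassical.OmegaReindex
open Cfsg.Agent.H951 (fx cm Inv)
open scoped MatrixGroups Matrix

universe u

/-- some large prime does not divide `|M|`. -/
def MissB (g : Grp) {T : Type*} [Group T] (M : Subgroup T) : Prop := ∃ u, BigU g u ∧ ¬ u ∣ Nat.card M

section quad

variable {ι : Type} [Fintype ι] [DecidableEq ι] {F : Type u} [Field F] [Fintype F] {Q : QuadraticForm F (ι → F)}
  {M : Subgroup (POmega F (⇑Q))}

theorem hitsB {g : Grp} (hM : ¬ MissB g M) {e : ℕ} (h : ∀ r, PP (Nat.card F) e r → BigU g r) :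
    Hits (pre (⇑Q) M) e := by
  intro r hr
  refine dvd_trans ?_ card_dvd_pre
  by_contra h2
  exact hM ⟨r, h r hr, h2⟩

seal _root_.Finset.sum _root_.dotProduct in
/-- the `r`-subgroups of `M` are cyclic if the elements of order `r` of the preimage have commutator spaces of dimension
`e = ord_r(q)`. -/
theorem cycP_of {e r : ℕ} (hr : PP (Nat.card F) e r) (he : 2 ≤ e)
    (h : ∀ g ∈ pre (⇑Q) M, g ^ r = 1 → g ≠ 1 → finrank F (cm (lin g)) = e) : CycP r M := by
  intro P hP
  have := Fact.mk hr.prime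
  have hq := one_lt_q F
  have hfin : Finite (GL ι F) := inferInstance
  have hfin1 : Finite (isometryGroup F (⇑Q)) := inferInstance
  have hfin2 : Finite (Omega F (⇑Q)) := inferInstance
  have hfin3 : Finite (POmega F (⇑Q)) := inferInstance
  set P₁ : Subgroup (POmega F (⇑Q)) := P.map M.subtype with hP₁
  have hP₁g : IsPGroup r P₁ := hP.map _
  set f : Omega F (⇑Q) →* POmega F (⇑Q) := QuotientGroup.mk' (Subgroup.center (Omega F (⇑Q))) with hf
  have hfs : Function.Surjective f := QuotientGroup.mk'_surjective _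
  set C : Subgroup (Omega F (⇑Q)) := P₁.comap f with hC
  let φ : C →* P₁ := f.subgroupComap P₁
  have hφ : Function.Surjective φ := by
    rintro ⟨y, hy⟩
    obtain ⟨x, rfl⟩ := hfs y
    exact ⟨⟨x, hy⟩, rfl⟩
  obtain ⟨S⟩ : Nonempty (Sylow r C) := inferInstance
  have hSmap : (S : Subgroup C).map φ = ⊤ := by
    have h1 := S.coe_mapSurjective hφ
    rw [← h1]
    exact (Sylow.is_maximal' _ (hP₁g.to_subgroup ⊤) le_top).symm
  -- the representation of `S`
  let ρ : S →* Module.End F (ι → F) :=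
    { toFun := fun s => lin ((((s : C) : Omega F (⇑Q)) : isometryGroup F (⇑Q)) : GL ι F)
      map_one' := lin_one
      map_mul' := fun a b => by
        show Matrix.toLin' _ = Matrix.toLin' _ * Matrix.toLin' _
        simp only [Module.End.mul_eq_comp, ← Matrix.toLin'_mul]
        rfl }
  have hρ : Function.Injective ρ := by
    intro a b hab
    have h1 := lin_injective hab
    exact Subtype.ext (Subtype.ext (Subtype.ext (Subtype.ext h1)))
  have hSc : IsCyclic S := by
    refine isCyclic_of_R S.2 ρ hρ (d := e) ?_ (by omega) (hr.ne0 (by omega)) ?_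
    · intro m hm
      exact (hr.dvd_iff hq.le m).1 hm
    · intro γ hγ hγ1
      refine h _ ?_ ?_ ?_
      · refine mem_pre.2 ?_
        have h2 : f ((γ : C) : Omega F (⇑Q)) ∈ P₁ := (γ : C).2
        rw [hP₁, Subgroup.mem_map] at h2
        obtain ⟨x, -, hx⟩ := h2
        simp only [← hf, ← hx]
        exact x.2
      · have h2 := congrArg (fun s : S => ((((s : C) : Omega F (⇑Q)) : isometryGroup F (⇑Q)) : GL ι F)) hγ
        exact h2
      · intro h2
        exact hγ1 (Subtype.ext (Subtype.ext (Subtype.ext (Subtype.ext h2))))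
  have h1 : IsCyclic (((S : Subgroup C).map φ :)) := by
    have := hSc
    exact isCyclic_of_surjective ((φ.subgroupMap (S : Subgroup C) :)) (φ.subgroupMap_surjective _)
  rw [hSmap] at h1
  have h2 : IsCyclic P₁ := isCyclic_of_surjective (Subgroup.topEquiv (G := P₁)).toMonoidHom
    (Subgroup.topEquiv (G := P₁)).surjective
  exact isCyclic_of_surjective (P.equivMapOfInjective M.subtype M.subtype_injective).symm.toMonoidHom
    (P.equivMapOfInjective M.subtype M.subtype_injective).symm.surjective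

/-- **Minus type.** -/
theorem minus_out {m : ℕ} (hm : 4 ≤ m) (hn : Fintype.card ι = 2 * m) (hQ : Nondeg Q)
    (M : Subgroup (POmega F (⇑Q))) :
    Out (.ominus m (Nat.card F)) M ∨ InOrthogonalResidualClass (pre (⇑Q) M) := by
  by_cases hM : MissB (.ominus m (Nat.card F)) M
  · exact Or.inl (Or.inl hM)
  right
  obtain ⟨e₃, he₃, he₃3, he₃n, he₃m, he₃l⟩ : ∃ e₃ : ℕ, Odd e₃ ∧ 3 ≤ e₃ ∧ 2 * m < 4 * e₃ ∧ (Even m → e₃ = m - 1) ∧
      e₃ < m := by
    rcases Nat.even_or_odd m with he | ho
    · exact ⟨m - 1, Nat.Even.sub_odd (by omega) he odd_one, by omega, by omega, fun _ => rfl, by omega⟩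
    · have hm5 : 5 ≤ m := by
        obtain ⟨k, hk⟩ := ho
        omega
      refine ⟨m - 2, ?_, by omega, by omega, fun h => absurd ho (Nat.not_odd_iff_even.2 h), by omega⟩
      obtain ⟨k, hk⟩ := ho
      exact ⟨k - 1, by omega⟩
  refine row_minus hm hn hQ pre_le he₃ he₃3 he₃n he₃m (hitsB hM fun r hr => ?_) (hitsB hM fun r hr => ?_)
    (hitsB hM fun r hr => ?_)
  · exact ⟨hr.prime, Or.inl ⟨by rw [hr.ord]; exact even_two_mul m, by rw [hr.ord]; omega, by rw [hr.ord]⟩⟩
  · exact ⟨hr.prime, Or.inl ⟨by rw [hr.ord]; exact ⟨m - 1, by omega⟩, by rw [hr.ord]; omega, by rw [hr.ord]; omega⟩⟩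
  · exact ⟨hr.prime, Or.inr ⟨by rw [hr.ord]; exact he₃, by rw [hr.ord]; omega, by rw [hr.ord]; omega⟩⟩

/-- **Plus type.** -/
theorem plus_out {m : ℕ} (hm : 4 ≤ m) (hn : Fintype.card ι = 2 * m) (hQ : Nondeg Q) (hP : IsPlus Q)
    (h4 : ¬ (Nat.card F = 2 ∧ m = 4)) (h6 : ¬ (Nat.card F = 2 ∧ m = 6)) (M : Subgroup (POmega F (⇑Q))) :
    Out (.oplus m (Nat.card F)) M ∨ InOrthogonalResidualClass (pre (⇑Q) M) := by
  by_cases hM : MissB (.oplus m (Nat.card F)) M
  · exact Or.inl (Or.inl hM)
  have hq := one_lt_q F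
  have ho3 := oddE_odd (m := m) (by omega)
  have he3g : m - 1 ≤ oddE m ∧ oddE m ≤ m := by
    rcases Nat.even_or_odd m with he | ho
    · rw [oddE_of_even he]; omega
    · rw [oddE_of_odd ho]; omega
  have hA : Hits (pre (⇑Q) M) (2 * m - 2) := hitsB hM fun r hr =>
    ⟨hr.prime, Or.inl ⟨by rw [hr.ord]; exact ⟨m - 1, by omega⟩, by rw [hr.ord]; omega, by rw [hr.ord]; omega⟩⟩
  have hB : Hits (pre (⇑Q) M) (oddE m) := hitsB hM fun r hr =>
    ⟨hr.prime, Or.inr ⟨by rw [hr.ord]; exact ho3, by rw [hr.ord]; omega, by rw [hr.ord]; omega⟩⟩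
  rcases row_plus hm hn hQ hP h4 (H := pre (⇑Q) M) pre_le hA hB with h | ⟨hme, v, hv, hMv⟩
  · exact Or.inr h
  · left; right
    obtain ⟨r, hr⟩ := exists_pp (q := Nat.card F) (e := m) (by omega) (by omega) h6
    refine ⟨r, ⟨hr.prime, hme, hr.ord⟩, cycP_of hr (by omega) ?_⟩
    intro g hg hgr hg1
    have hx : lin g ^ r = 1 := by rw [← H251.GeoCard.toLin_pow, hgr]; exact lin_one
    have hiso : Iso Q (lin g) r := Iso.mk' hr (by omega) hx (lin_iso pre_le hg)
    have hv0 : v ≠ 0 := by
      rintro rfl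
      exact hv (QuadraticMap.map_zero Q)
    have hs1 := finrank_span_singleton (K := F) hv0
    have hle := hiso.le_fx hr (inv_of_mem (hMv hg)) (by omega)
    have h3 := Submodule.finrank_mono hle
    have hadd := hiso.finrank_add
    rw [finrank_V] at hadd
    have hne : finrank F (cm (lin g)) ≠ 0 := fun h0 => cm_ne_bot ((lin_ne_one hg1 :)) (Submodule.finrank_eq_zero.1 h0)
    obtain ⟨k, hk⟩ := hiso.dvd_cm hr
    have hk1 : k = 1 := by
      have h5 : k < 2 := by
        by_contra hcon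
        push Not at hcon
        have := Nat.mul_le_mul_left m hcon
        omega
      have h6 : k ≠ 0 := by rintro rfl; omega
      omega
    rw [hk, hk1, mul_one]

/-- **Odd dimension.** -/
theorem odd_out {m : ℕ} (h2F : (2 : F) ≠ 0) (hm : 3 ≤ m) (hn : Fintype.card ι = 2 * m + 1) (hQ : Nondeg Q)
    (M : Subgroup (POmega F (⇑Q))) :
    Out (.oodd m (Nat.card F)) M ∨ InOrthogonalResidualClass (pre (⇑Q) M) := by
  by_cases hM : MissB (.oodd m (Nat.card F)) M
  · exact Or.inl (Or.inl hM)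
  have hq := one_lt_q F
  have hq2 : Nat.card F ≠ 2 := by
    intro h
    apply h2F
    have h5 : ((Fintype.card F : ℕ) : F) = 0 := FiniteField.cast_card_eq_zero F
    rw [← Nat.card_eq_fintype_card, h] at h5
    exact_mod_cast h5
  have ho3 := oddE_odd (m := m) (by omega)
  have he3g : m < 2 * oddE m ∧ oddE m ≤ m := by
    rcases Nat.even_or_odd m with he | ho
    · rw [oddE_of_even he]; omega
    · rw [oddE_of_odd ho]; omega
  have hC : Hits (pre (⇑Q) M) (2 * m) := hitsB hM fun r hr =>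
    ⟨hr.prime, Or.inl ⟨by rw [hr.ord]; exact even_two_mul m, by rw [hr.ord]; omega, by rw [hr.ord]⟩⟩
  have hA : Hits (pre (⇑Q) M) (2 * m - 2) := hitsB hM fun r hr =>
    ⟨hr.prime, Or.inl ⟨by rw [hr.ord]; exact ⟨m - 1, by omega⟩, by rw [hr.ord]; omega, by rw [hr.ord]; omega⟩⟩
  have hB : Hits (pre (⇑Q) M) (oddE m) := hitsB hM fun r hr =>
    ⟨hr.prime, Or.inr ⟨by rw [hr.ord]; exact ho3, by rw [hr.ord]; omega, by rw [hr.ord]; omega⟩⟩
  rcases row_odd h2F hm hn hQ (H := pre (⇑Q) M) pre_le hC hA hB with h | ⟨hme, v, hv, hMv, hP⟩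
  · exact Or.inr h
  · left; right
    have hm4 : 4 ≤ m := by
      obtain ⟨k, hk⟩ := hme
      omega
    obtain ⟨r, hr⟩ := exists_pp (q := Nat.card F) (e := m) (by omega) hm (by omega)
    refine ⟨r, ⟨hr.prime, hme, hr.ord⟩, cycP_of hr (by omega) ?_⟩
    intro g hg hgr hg1
    have hx : lin g ^ r = 1 := by rw [← H251.GeoCard.toLin_pow, hgr]; exact lin_one
    have hiso : Iso Q (lin g) r := Iso.mk' hr (by omega) hx (lin_iso pre_le hg)
    have hv0 : v ≠ 0 := by
      rintro rfl
      exact hv (QuadraticMap.map_zero Q)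
    have hs1 := finrank_span_singleton (K := F) hv0
    have hle := hiso.le_fx hr (inv_of_mem (hMv hg)) (by omega)
    have h3 := Submodule.finrank_mono hle
    have hadd := hiso.finrank_add
    rw [finrank_V] at hadd
    have hne : finrank F (cm (lin g)) ≠ 0 := fun h0 => cm_ne_bot ((lin_ne_one hg1 :)) (Submodule.finrank_eq_zero.1 h0)
    obtain ⟨k, hk⟩ := hiso.dvd_cm hr
    have hk1 : k = 1 := by
      have h5 : k < 3 := by
        by_contra hcon
        push Not at hcon
        have := Nat.mul_le_mul_left m hcon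
        omega
      have h6 : k ≠ 0 := by rintro rfl; omega
      have h7 : k ≠ 2 := by
        rintro rfl
        have hPl := hiso.even_two hQ hr hme hk
        have heq : Submodule.span F {v} = fx (lin g) := Submodule.eq_of_le_of_finrank_eq hle (by omega)
        rw [heq, perp_fx hQ hiso.iso hiso.ne0 hiso.pow] at hP
        exact hP hPl
      omega
    rw [hk, hk1, mul_one]

end quad

section standard

variable {F : Type u} [Field F] [Fintype F]

/-- `PΩ_{2m+1}(q)`, `q` odd, `m ≥ 3`. -/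
theorem geo_oodd {m : ℕ} (hm : 3 ≤ m) (hodd : Odd (Fintype.card F)) (M : Subgroup (POmega F (quadFormOdd m F))) :
    Out (.oodd m (Fintype.card F)) M ∨ InOrthogonalResidualClass (pre (quadFormOdd m F) M) := by
  have h2 := H390.two_ne_zero_of_odd hodd
  have h : ∀ M : Subgroup (POmega F (⇑(quadOdd m F))),
      Out (.oodd m (Nat.card F)) M ∨ InOrthogonalResidualClass (pre (⇑(quadOdd m F)) M) :=
    odd_out h2 hm (card_odd m) (nondeg_iff.2 (quadOdd_nondegenerate h2))
  rw [coe_quadOdd, Nat.card_eq_fintype_card] at h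
  exact h M

/-- `PΩ⁻_{2m}(q)`, `m ≥ 4`. -/
theorem geo_ominus {m : ℕ} (hm : 4 ≤ m) {a b : F}
    (hab : ∀ z₁ z₂ : F, z₁ ^ 2 + a * z₁ * z₂ + b * z₂ ^ 2 = 0 → z₁ = 0 ∧ z₂ = 0)
    (M : Subgroup (POmega F (quadFormMinus (m - 1) F a b))) :
    Out (.ominus m (Fintype.card F)) M ∨ InOrthogonalResidualClass (pre (quadFormMinus (m - 1) F a b) M) := by
  have h : ∀ M : Subgroup (POmega F (⇑(quadMinus (m - 1) F a b))),
      Out (.ominus m (Nat.card F)) M ∨ InOrthogonalResidualClass (pre (⇑(quadMinus (m - 1) F a b)) M) :=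
    minus_out hm (card_minus (by omega)) (nondeg_iff.2 (quadMinus_nondegenerate hab))
  (rewrite [coe_quadMinus] at h; simp only [Nat.card_eq_fintype_card] at h)
  exact h M

/-- `PΩ⁺_{2m}(q)`, `m ≥ 4`, `(q, m) ≠ (2, 4), (2, 6)`. -/
theorem geo_oplus {m : ℕ} (hm : 4 ≤ m) (h4 : ¬ (Fintype.card F = 2 ∧ m = 4)) (h6 : ¬ (Fintype.card F = 2 ∧ m = 6))
    (M : Subgroup (POmega F (quadFormPlus m F))) :
    Out (.oplus m (Fintype.card F)) M ∨ InOrthogonalResidualClass (pre (quadFormPlus m F) M) := by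
  rw [← Nat.card_eq_fintype_card] at h4 h6
  have h : ∀ M : Subgroup (POmega F (⇑(quadPlus m F))),
      Out (.oplus m (Nat.card F)) M ∨ InOrthogonalResidualClass (pre (⇑(quadPlus m F)) M) :=
    plus_out hm (card_plus m) (nondeg_iff.2 quadPlus_nondegenerate) (isPlus_quadPlus m) h4 h6
  rw [coe_quadPlus, Nat.card_eq_fintype_card] at h
  exact h M

end standard

end Cfsg.Agent.H193.Dg
end
end
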